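import Cfsg.Agent.Lib.Compute.GolayFacts
import Cfsg.Agent.Lib.MathieuOut.Cert
import Cfsg.Prelude.Def_Spor_Mathieu

/-!
# Centralisers of elements of order 23 and 11 in the group of the length-24 code
-/

namespace Cfsg.Agent.Lib.MathieuOut

open Cfsg Equiv Cfsg.Agent.Lib.Compute

/-- `x ↦ x + 1`, the extra point fixed. -/
def shift : Perm GolayPt := Equiv.optionCongr (Equiv.addRight (1 : ZMod 23))

/-- `x ↦ 2x`, the extra point fixed. -/
def dbl : Perm GolayPt where
  toFun p := p.map (2 * ·)
  invFun p := p.map (12 * ·)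
  left_inv := by intro p; revert p; decide +kernel
  right_inv := by intro p; revert p; decide +kernel

/-- A computable copy of `Cfsg.cubeTwist`. -/
def ctw : Perm GolayPt where
  toFun := cubeTwistFun
  invFun p := cubeTwistFun (cubeTwistFun (cubeTwistFun (cubeTwistFun p)))
  left_inv := by intro p; revert p; decide +kernel
  right_inv := by intro p; revert p; decide +kernel

theorem ctw_eq : ctw = cubeTwist := Equiv.ext fun _ => rfl

theorem shift_mem : shift ∈ M24 :=
  mem_M24_of_app (P := 0x1700000016001500140013001200110010000f000e000d000c000b000a000900080007000600050004000300020001)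
    (by decide +kernel) (by decide +kernel)

theorem dbl_mem : dbl ∈ M24 :=
  mem_M24_of_app (P := 0x17001500130011000f000d000b000900070005000300010016001400120010000e000c000a00080006000400020000)
    (by decide +kernel) (by decide +kernel)

theorem ctw_mem : ctw ∈ M24 :=
  mem_M24_of_app (P := 0x17000e0014000a00160004000b000d000f00110009000800130007000c001000050001001500020003000600120000)
    (by decide +kernel) (by decide +kernel)

theorem projInv_mem : projInv ∈ M24 :=
  mem_M24_of_app (P := 0x1000c00080006000e0004000a00030012000700150002001000050014000d001300090011000f000b00160017)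
    (by decide +kernel) (by decide +kernel)

/-- A permutation commuting with the shift is a power of it. -/
theorem eq_pow_shift {σ : Perm GolayPt} (h : Commute σ shift) :
    ∃ c : Fin 23, σ = shift ^ (c : ℕ) := by
  have hc : ∀ p, σ (shift p) = shift (σ p) := fun p => by
    have := congrArg (fun f => f p) h.eq
    simpa [Perm.mul_apply] using this
  have hn : σ none = none := by
    have h1 : shift (σ none) = σ none := by rw [← hc]; rfl
    revert h1
    generalize σ none = q
    revert q; decide +kernel
  obtain ⟨c, hc0⟩ : ∃ c : Fin 23, σ (some 0) = some (c : ZMod 23) := by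
    cases hq : σ (some 0) with
    | none => exact absurd (σ.injective (hq.trans hn.symm)) (by simp)
    | some v => exact ⟨v, rfl⟩
  refine ⟨c, Equiv.ext fun p => ?_⟩
  have hpow : ∀ n : ℕ, σ ((shift ^ n) (some 0)) = (shift ^ n) (σ (some 0)) := by
    intro n
    have := congrArg (fun f => f (some 0)) (h.pow_right n).eq
    simpa [Perm.mul_apply] using this
  cases p with
  | none =>
    rw [hn]
    have : ∀ c : Fin 23, (shift ^ (c : ℕ)) none = (none : GolayPt) := by decide +kernel
    rw [this]
  | some v =>
    have e1 : ∀ v : ZMod 23, (shift ^ v.val) (some 0) = (some v : GolayPt) := by decide +kernel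
    have e2 : ∀ (v : ZMod 23) (c : Fin 23),
        (shift ^ v.val) (some (c : ZMod 23)) = (shift ^ (c : ℕ)) (some v) := by decide +kernel
    exact ((congrArg σ (e1 v)).symm.trans ((hpow v.val).trans (congrArg _ hc0))).trans (e2 v c)

/-- Parity test showing that a relabelling does not preserve the code. -/
def badMap (f : List ℕ) : Bool :=
  (golayBasis.map Prod.fst).any fun a => (golayBasis.map Prod.fst).any fun b =>
    ((List.range 24).countP fun i => a.testBit i && b.testBit (f.getD i 0)) % 2 == 1

theorem not_badMap {σ : Perm GolayPt} (hσ : σ ∈ M24) (f : List ℕ)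
    (hf : ∀ i : Fin 24, f.getD i 0 = (enc (σ (enc.symm i)) : ℕ)) : badMap f = false := by
  rw [Bool.eq_false_iff]
  intro hb
  simp only [badMap, List.any_eq_true, beq_iff_eq] at hb
  obtain ⟨a, ha, b, hb, hodd⟩ := hb
  have hmem : ∀ m ∈ golayBasis.map Prod.fst, wordOf m ∈ golayCode := by
    intro m hm
    apply wordOf_mem_of_inCode
    revert m; decide +kernel
  have hb' : wordOf b ∘ σ ∈ golayCode := by
    have := (mem_M24_iff σ⁻¹).mp (inv_mem hσ) _ (hmem b hb)
    simpa [Perm.inv_def] using this
  have h0 := golayCode_orth (hmem a ha) hb'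
  rw [← Equiv.sum_comp enc.symm] at h0
  have h1 : ∀ i : Fin 24, wordOf a (enc.symm i) * (wordOf b ∘ σ) (enc.symm i) =
      if a.testBit i && b.testBit (f.getD i 0) then 1 else 0 := by
    intro i
    rw [hf i]
    simp only [Function.comp, wordOf, Equiv.apply_symm_apply]
    cases a.testBit i <;> cases b.testBit (enc (σ (enc.symm i))) <;> simp
  rw [Finset.sum_congr rfl fun i _ => h1 i, Finset.sum_boole,
    ZMod.natCast_eq_zero_iff_even] at h0
  have h2 : (Finset.univ.filter fun i : Fin 24 =>
      (a.testBit i && b.testBit (f.getD i 0)) = true).card =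
      (List.range 24).countP fun i => a.testBit i && b.testBit (f.getD i 0) := by
    rw [List.countP_eq_length_filter, ← List.toFinset_card_of_nodup (List.nodup_range.filter _)]
    refine Finset.card_bij (fun i _ => (i : ℕ)) (fun i hi => ?_) (fun i _ j _ h => Fin.ext h)
      (fun j hj => ?_)
    · rw [List.mem_toFinset, List.mem_filter, List.mem_range]
      exact ⟨i.isLt, (Finset.mem_filter.mp hi).2⟩
    · rw [List.mem_toFinset, List.mem_filter, List.mem_range] at hj
      exact ⟨⟨j, hj.1⟩, Finset.mem_filter.mpr ⟨Finset.mem_univ _, hj.2⟩, rfl⟩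
  rw [h2, Nat.even_iff] at h0
  omega

/-- The table of the map commuting with the doubling map that sends the extra point to itself
(`t`) or to 0, the residue 1 to `a` and the residue 22 to `b`. -/
def centTable (t : Bool) (a b : ℕ) : List ℕ :=
  (List.range 24).map fun i =>
    bif i == 23 then (bif t then 23 else 0)
    else bif i == 0 then (bif t then 0 else 23)
    else bif [1, 2, 3, 4, 6, 8, 9, 12, 13, 16, 18].contains i then i * a % 23
    else 22 * i * b % 23

theorem centTable_bad : ∀ (t : Bool) (a b : ZMod 23), a ≠ 0 → b ≠ 0 →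
    badMap (centTable t a.val b.val) = false →
    t = true ∧ ∃ i : Fin 11, a = 2 ^ (i : ℕ) ∧ b = 22 * 2 ^ (i : ℕ) := by
  decide +kernel

theorem centTable_getD (t : Bool) (a b : ℕ) {n : ℕ} (h1 : n < 23) (h2 : n ≠ 0) :
    (centTable t a b).getD n 0 =
      bif [1, 2, 3, 4, 6, 8, 9, 12, 13, 16, 18].contains n then n * a % 23
      else 22 * n * b % 23 := by
  rw [List.getD_eq_getElem?_getD, centTable, List.getElem?_map,
    List.getElem?_range (by omega), Option.map_some, Option.getD_some,
    show (n == 23) = false from beq_false_of_ne (by omega),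
    show (n == 0) = false from beq_false_of_ne h2, cond_false, cond_false]

theorem dbl_pow_some (n : ℕ) (v : ZMod 23) : (dbl ^ n) (some v) = some (2 ^ n * v) := by
  induction n with
  | zero => simp
  | succ n ih =>
    rw [pow_succ', Perm.mul_apply, ih, pow_succ']
    show some (2 * (2 ^ n * v)) = _
    rw [mul_assoc]

theorem dbl_pow_none : ∀ n : ℕ, (dbl ^ n) none = none := by
  intro n
  induction n with
  | zero => rfl
  | succ n ih => rw [pow_succ', Perm.mul_apply, ih]; rfl

/-- An element of `M24` commuting with the doubling map is a power of it. -/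
theorem eq_pow_dbl {σ : Perm GolayPt} (hσ : σ ∈ M24) (h : Commute σ dbl) :
    ∃ i : Fin 11, σ = dbl ^ (i : ℕ) := by
  have hc : ∀ (n : ℕ) p, σ ((dbl ^ n) p) = (dbl ^ n) (σ p) := fun n p => by
    have := congrArg (fun f => f p) (h.pow_right n).eq
    simpa [Perm.mul_apply] using this
  have hfix : ∀ q : GolayPt, dbl q = q ↔ (q = none ∨ q = some 0) := by decide +kernel
  have hd : ∀ p, σ (dbl p) = dbl (σ p) := fun p => by simpa using hc 1 p
  have hN : σ none = none ∨ σ none = some 0 := (hfix _).mp (by rw [← hd]; rfl)
  have hZ : σ (some 0) = none ∨ σ (some 0) = some 0 := (hfix _).mp (by rw [← hd]; rfl)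
  have hmov : ∀ u : ZMod 23, u ≠ 0 → ∃ w : ZMod 23, w ≠ 0 ∧ σ (some u) = some w := by
    intro u hu
    have hne : dbl (σ (some u)) ≠ σ (some u) := by
      rw [← hd, σ.injective.ne_iff]
      revert u; decide +kernel
    cases hq : σ (some u) with
    | none => exact absurd ((hfix _).mpr (Or.inl rfl)) (hq ▸ hne)
    | some w =>
      refine ⟨w, ?_, rfl⟩
      rintro rfl
      exact ((hq ▸ hne) ((hfix _).mpr (Or.inr rfl))).elim
  obtain ⟨a, ha0, ha⟩ := hmov 1 (by decide)
  obtain ⟨b, hb0, hb⟩ := hmov 22 (by decide)
  let t : Bool := (σ none).isNone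
  have ht : σ none = (if t then none else some 0) ∧ σ (some 0) = (if t then some 0 else none) := by
    rcases hN with e | e <;> simp only [t, e, Option.isNone_none, Option.isNone_some,
      if_true, Bool.false_eq_true, if_false, true_and] <;> rcases hZ with e' | e'
    · exact absurd (σ.injective (e'.trans e.symm)) (by simp)
    · exact e'
    · exact e'
    · exact absurd (σ.injective (e'.trans e.symm)) (by simp)
  have hsplit : ∀ v : ZMod 23, v = 0 ∨ ∃ j : Fin 11,
      v = 2 ^ (j : ℕ) * 1 ∨ v = 2 ^ (j : ℕ) * 22 := by decide +kernel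
  have himg1 : ∀ j : Fin 11, σ (some (2 ^ (j : ℕ) * 1)) = some (2 ^ (j : ℕ) * a) := fun j => by
    rw [← dbl_pow_some, hc, ha, dbl_pow_some]
  have himg2 : ∀ j : Fin 11, σ (some (2 ^ (j : ℕ) * 22)) = some (2 ^ (j : ℕ) * b) := fun j => by
    rw [← dbl_pow_some, hc, hb, dbl_pow_some]
  have htab : ∀ p : GolayPt,
      (centTable t a.val b.val).getD (enc p) 0 = (enc (σ p) : ℕ) := by
    intro p
    cases p with
    | none =>
      rw [ht.1]
      cases t <;> rfl
    | some v =>
      rcases hsplit v with rfl | ⟨j, rfl | rfl⟩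
      · rw [ht.2]
        cases t <;> rfl
      · rw [himg1]
        have : ∀ (j : Fin 11) (a : ZMod 23) (t : Bool),
            (centTable t a.val 0).getD (enc (some (2 ^ (j : ℕ) * 1) : GolayPt)) 0 =
              (enc (some (2 ^ (j : ℕ) * a) : GolayPt) : ℕ) := by decide +kernel
        rw [← this j a t]
        have key : ∀ (j : Fin 11), ((enc (some (2 ^ (j : ℕ) * 1) : GolayPt) : ℕ) < 23 ∧
            (enc (some (2 ^ (j : ℕ) * 1) : GolayPt) : ℕ) ≠ 0 ∧
            [1, 2, 3, 4, 6, 8, 9, 12, 13, 16, 18].contains
              (enc (some (2 ^ (j : ℕ) * 1) : GolayPt) : ℕ) = true) := by decide +kernel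
        obtain ⟨k1, k2, k3⟩ := key j
        rw [centTable_getD _ _ _ k1 k2, centTable_getD _ _ _ k1 k2, k3]
        rfl
      · rw [himg2]
        have : ∀ (j : Fin 11) (b : ZMod 23) (t : Bool),
            (centTable t 0 b.val).getD (enc (some (2 ^ (j : ℕ) * 22) : GolayPt)) 0 =
              (enc (some (2 ^ (j : ℕ) * b) : GolayPt) : ℕ) := by decide +kernel
        rw [← this j b t]
        have key : ∀ (j : Fin 11), ((enc (some (2 ^ (j : ℕ) * 22) : GolayPt) : ℕ) < 23 ∧
            (enc (some (2 ^ (j : ℕ) * 22) : GolayPt) : ℕ) ≠ 0 ∧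
            [1, 2, 3, 4, 6, 8, 9, 12, 13, 16, 18].contains
              (enc (some (2 ^ (j : ℕ) * 22) : GolayPt) : ℕ) = false) := by decide +kernel
        obtain ⟨k1, k2, k3⟩ := key j
        rw [centTable_getD _ _ _ k1 k2, centTable_getD _ _ _ k1 k2, k3]
        rfl
  have hgood : badMap (centTable t a.val b.val) = false :=
    not_badMap hσ _ fun i => by
      have := htab (enc.symm i)
      rwa [Equiv.apply_symm_apply] at this
  obtain ⟨htt, i, hai, hbi⟩ := centTable_bad t a b ha0 hb0 hgood
  refine ⟨i, Equiv.ext fun p => ?_⟩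
  cases p with
  | none => rw [ht.1, htt, dbl_pow_none]; rfl
  | some v =>
    rw [dbl_pow_some]
    rcases hsplit v with rfl | ⟨j, rfl | rfl⟩
    · rw [ht.2, htt, mul_zero]; rfl
    · rw [himg1, hai]; congr 1; ring
    · rw [himg2, hbi]; congr 1; ring

end Cfsg.Agent.Lib.MathieuOut
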