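import Cfsg.Agent.Lib.MathieuOut.Main
import Cfsg.Agent.S0376
import Cfsg.Agent.S0374

/-!
# Generators of the groups of degree 23 and 24, and their automorphisms
-/

namespace Cfsg.Agent.Lib.MathieuOut

open Cfsg Equiv Cfsg.Agent.Lib.Compute

theorem shift_app : ∀ p : GolayPt, ((enc (shift p) : Fin 24) : ℕ) = app
    0x1700000016001500140013001200110010000f000e000d000c000b000a000900080007000600050004000300020001
    (enc p) := by decide +kernel

theorem ctw_app : ∀ p : GolayPt, ((enc (ctw p) : Fin 24) : ℕ) = app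
    0x17000e0014000a00160004000b000d000f00110009000800130007000c001000050001001500020003000600120000
    (enc p) := by decide +kernel

theorem chk_m23AE : chk 24 m23AE = true := by decide +kernel

theorem slp_m23AE : slpOk 24 m23AEBase m23AESteps = true ∧
    slpCovers m23AEBase m23AESteps m23AE = true := by decide +kernel

theorem shift_mem_M23 : shift ∈ Spor.M23 := ⟨shift_mem, rfl⟩
theorem ctw_mem_M23 : ctw ∈ Spor.M23 := ⟨ctw_mem, rfl⟩
theorem dbl_mem_M23 : dbl ∈ Spor.M23 := ⟨dbl_mem, rfl⟩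

theorem card_M23 : Nat.card Spor.M23 = 10200960 := by
  rw [← Cfsg.Agent.S0376.result (none : GolayPt)]
  refine Nat.card_congr
    { toFun := fun σ => ⟨⟨σ.1, σ.2.1⟩, σ.2.2⟩
      invFun := fun σ => ⟨σ.1.1, σ.1.2, σ.2⟩
      left_inv := fun _ => rfl
      right_inv := fun _ => rfl }

/-- The group of degree 23 is generated by the shift and the cube twist. -/
theorem closure_M23 : Subgroup.closure {shift, ctw} = Spor.M23 := by
  have hle : Subgroup.closure {shift, ctw} ≤ Spor.M23 :=
    (Subgroup.closure_le _).mpr (by rintro x (rfl | rfl); exacts [shift_mem_M23, ctw_mem_M23])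
  refine Subgroup.eq_of_le_of_card_ge hle ?_
  have hv : ∀ b ∈ m23AEBase, Valid 24 b := by
    simp only [m23AEBase, List.forall_mem_cons]
    refine ⟨⟨toGP.symm shift, fun i => ?_⟩, ⟨toGP.symm ctw, fun i => ?_⟩, fun x hx => by simp at hx⟩
    · have := shift_app (enc.symm i); rwa [Equiv.apply_symm_apply] at this
    · have := ctw_app (enc.symm i); rwa [Equiv.apply_symm_apply] at this
  have h1 := grp_le_closure hv slp_m23AE.1 slp_m23AE.2
  have h2 : (Subgroup.closure (toPerm 24 '' {b | b ∈ m23AEBase})).map toGP.toMonoidHom ≤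
      Subgroup.closure {shift, ctw} := by
    rw [MonoidHom.map_closure]
    refine Subgroup.closure_mono ?_
    rintro _ ⟨_, ⟨b, hb, rfl⟩, rfl⟩
    simp only [m23AEBase, Set.mem_ofPred_eq, List.mem_cons, List.not_mem_nil, or_false] at hb
    rcases hb with rfl | rfl
    · exact Or.inl (toGP_toPerm_eq shift_app)
    · exact Or.inr (toGP_toPerm_eq ctw_app)
  rw [card_M23]
  calc 10200960 = Nat.card (grp 24 m23AE) := by rw [card_grp chk_m23AE]; decide +kernel
    _ = Nat.card ((grp 24 m23AE).map toGP.toMonoidHom) :=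
        Nat.card_congr (toGP.subgroupMap (grp 24 m23AE)).toEquiv
    _ ≤ Nat.card (Subgroup.closure {shift, ctw}) :=
        Nat.le_of_dvd Nat.card_pos
          (Subgroup.card_dvd_of_le ((Subgroup.map_mono h1).trans h2))

theorem closure_subtype {H : Subgroup (Perm GolayPt)} {S : Set (Perm GolayPt)}
    (hS : Subgroup.closure S = H) :
    Subgroup.closure {x : H | (x : Perm GolayPt) ∈ S} = ⊤ := by
  apply Subgroup.map_injective H.subtype_injective
  rw [MonoidHom.map_closure, ← MonoidHom.range_eq_map, Subgroup.range_subtype]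
  conv_rhs => rw [← hS]
  congr 1
  ext x
  exact ⟨fun ⟨y, hy, e⟩ => e ▸ hy, fun hx => ⟨⟨x, hS ▸ Subgroup.subset_closure hx⟩, hx, rfl⟩⟩

theorem out_M23 : Nat.card (Cfsg.Out Spor.M23) = 1 := by
  refine card_out_eq_one fun φ => ?_
  obtain ⟨g, hga, -, hge⟩ := exists_normalize (H := Spor.M23) inf_le_left shift_mem_M23 dbl_mem_M23
    ctw_mem_M23 (by rw [card_M23]; decide) φ
  refine mem_inn_of_closure (closure_subtype closure_M23) φ g fun x hx => ?_
  rcases hx with hx | hx
  · rw [show x = ⟨shift, shift_mem_M23⟩ from Subtype.ext hx]; exact hga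
  · rw [show x = ⟨ctw, ctw_mem_M23⟩ from Subtype.ext hx]; exact hge

theorem out_M24 : Nat.card (Cfsg.Out M24) = 1 := by
  refine card_out_eq_one fun φ => ?_
  obtain ⟨g, hga, hgd, hge⟩ := exists_normalize (H := M24) le_rfl shift_mem dbl_mem ctw_mem
    (by rw [card_M24]; decide) φ
  have hgen : Subgroup.closure {shift, projInv, ctw} = M24 := by
    rw [ctw_eq]; exact Cfsg.Agent.S0374.result
  let χ : M24 →* M24 := (MulAut.conj g).toMonoidHom.comp φ.toMonoidHom
  have hχ : ∀ x, χ x = g * φ x * g⁻¹ := fun x => rfl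
  set w : M24 := ⟨projInv, projInv_mem⟩ with hw
  have hrel : ((χ w : M24) : Perm GolayPt) * dbl * ((χ w : M24) : Perm GolayPt)⁻¹ = dbl ^ 10 := by
    have h1 : w * ⟨dbl, dbl_mem⟩ * w⁻¹ = (⟨dbl, dbl_mem⟩ : M24) ^ 10 :=
      Subtype.ext (by simpa [hw] using pow22_conj.2.2.2.1)
    have h2 := congrArg (fun x : M24 => (x : Perm GolayPt)) (congrArg χ h1)
    simp only [map_mul, map_inv, map_pow, Subgroup.coe_mul, Subgroup.coe_inv, Subgroup.coe_pow,
      hχ (⟨dbl, dbl_mem⟩ : M24), hgd] at h2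
    exact h2
  obtain ⟨l, hl⟩ : ∃ l : Fin 11, ((χ w : M24) : Perm GolayPt) = projInv * dbl ^ (l : ℕ) := by
    obtain ⟨l, hl⟩ := eq_pow_dbl (σ := projInv⁻¹ * ((χ w : M24) : Perm GolayPt))
      (mul_mem (inv_mem projInv_mem) (χ w).2) (by
      have h1 : dbl = projInv⁻¹ * dbl ^ 10 * projInv := by
        rw [← pow22_conj.2.2.2.1]; group
      show projInv⁻¹ * _ * dbl = dbl * (projInv⁻¹ * _)
      conv_rhs => rw [h1, ← hrel]
      group)
    exact ⟨l, by rw [← hl]; group⟩
  have hcube : (χ ⟨shift, shift_mem⟩ * χ w) ^ 3 = 1 := by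
    rw [← map_mul, ← map_pow]
    have : ((⟨shift, shift_mem⟩ : M24) * w) ^ 3 = 1 :=
      Subtype.ext (by simpa [hw] using pow22_conj.2.2.2.2.2)
    rw [this, map_one]
  have hcube' := congrArg (fun x : M24 => (x : Perm GolayPt)) hcube
  simp only [Subgroup.coe_mul, Subgroup.coe_pow, Subgroup.coe_one, hl,
    hχ (⟨shift, shift_mem⟩ : M24), hga] at hcube'
  have hl0 := word_kill_projInv l hcube'
  have hgw : g * φ w * g⁻¹ = w := Subtype.ext (by rw [← hχ, hl, hl0]; simp [hw])
  refine mem_inn_of_closure (closure_subtype hgen) φ g fun x hx => ?_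
  rcases hx with hx | hx | hx
  · rw [show x = ⟨shift, shift_mem⟩ from Subtype.ext hx]; exact hga
  · rw [show x = w from Subtype.ext hx]; exact hgw
  · rw [show x = ⟨ctw, ctw_mem⟩ from Subtype.ext hx]; exact hge

end Cfsg.Agent.Lib.MathieuOut
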