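import Cfsg.Agent.Lib.MathieuOut.Perms
import Cfsg.Prelude.Def_KGroupFacts

/-!
# Automorphisms of the groups of degree 23 and 24 of the length-24 code are inner
-/

namespace Cfsg.Agent.Lib.MathieuOut

open Cfsg Equiv Cfsg.Agent.Lib.Compute

theorem shift_pow_orbit : ∀ k : Fin 23, k ≠ 0 → ∃ i : Fin 11,
    dbl ^ (i : ℕ) * shift ^ (k : ℕ) * (dbl ^ (i : ℕ))⁻¹ = shift ∨
      dbl ^ (i : ℕ) * shift ^ (k : ℕ) * (dbl ^ (i : ℕ))⁻¹ = shift ^ 22 := by
  decide +kernel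

theorem dbl_shift_fix : ∀ j : Fin 23,
    shift ^ (2 * (j : ℕ)) * (dbl * shift ^ (j : ℕ)) * (shift ^ (2 * (j : ℕ)))⁻¹ = dbl := by
  decide +kernel

theorem pow22_conj : shift ^ 22 = shift⁻¹ ∧ dbl * shift * dbl⁻¹ = shift ^ 2 ∧
    ctw * dbl * ctw⁻¹ = dbl ^ 3 ∧ projInv * dbl * projInv⁻¹ = dbl ^ 10 ∧
    (shift ^ 5 * ctw ^ 2) ^ 4 = 1 ∧ (shift * projInv) ^ 3 = 1 := by
  decide +kernel

theorem word_kill : ∀ i : Fin 11,
    (((shift) ^ 5 * (ctw * dbl ^ (i : ℕ)) ^ 2) ^ 4 = 1 → i = 0) ∧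
    ((((shift ^ 22) ^ 5 * (ctw * dbl ^ (i : ℕ)) ^ 2) ^ 4) ≠ 1) := by
  decide +kernel

theorem word_kill_projInv : ∀ j : Fin 11,
    (shift * (projInv * dbl ^ (j : ℕ))) ^ 3 = 1 → j = 0 := by
  decide +kernel

theorem orderOf_shift : orderOf shift = 23 := by
  have : Fact (Nat.Prime 23) := ⟨by norm_num⟩
  exact orderOf_eq_prime (by decide +kernel) (by decide +kernel)

variable {H : Subgroup (Perm GolayPt)}

/-- Up to inner automorphisms, an automorphism of `H` fixes the shift, the doubling map and the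
cube twist. -/
theorem exists_normalize (hH : H ≤ M24) (hs : shift ∈ H) (hd : dbl ∈ H) (he : ctw ∈ H)
    (h23 : ¬ 23 ^ 2 ∣ Nat.card H) (φ : MulAut H) :
    ∃ g : H, (g * φ ⟨shift, hs⟩ * g⁻¹ = ⟨shift, hs⟩) ∧ (g * φ ⟨dbl, hd⟩ * g⁻¹ = ⟨dbl, hd⟩) ∧
      (g * φ ⟨ctw, he⟩ * g⁻¹ = ⟨ctw, he⟩) := by
  have : Fact (Nat.Prime 23) := ⟨by norm_num⟩
  set a : H := ⟨shift, hs⟩ with ha
  set d : H := ⟨dbl, hd⟩ with hdd
  set e : H := ⟨ctw, he⟩ with hee
  have hoa : orderOf a = 23 := by rw [← Subgroup.orderOf_coe]; exact orderOf_shift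
  have hfac : (Nat.card H).factorization 23 = 1 := by
    have h1 : 23 ∣ Nat.card H := hoa ▸ orderOf_dvd_natCard a
    have h0 : Nat.card H ≠ 0 := Nat.card_pos.ne'
    have := (Nat.Prime.dvd_iff_one_le_factorization (Fact.out) h0).mp h1
    by_contra hne
    exact h23 ((Nat.Prime.pow_dvd_iff_le_factorization (Fact.out) h0).mpr (by omega))
  let P : Sylow 23 H := Sylow.ofCard (Subgroup.zpowers a)
    (by rw [Nat.card_zpowers, hoa, hfac, pow_one])
  let Q : Sylow 23 H := Sylow.ofCard (Subgroup.zpowers (φ a))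
    (by rw [Nat.card_zpowers, MulEquiv.orderOf_eq, hoa, hfac, pow_one])
  obtain ⟨g, hg⟩ := MulAction.exists_smul_eq H Q P
  have hga : g * φ a * g⁻¹ ∈ Subgroup.zpowers a := by
    have : (P : Subgroup H) = Subgroup.zpowers a := rfl
    rw [← this, ← hg, Sylow.coe_subgroup_smul]
    exact ⟨φ a, Subgroup.mem_zpowers _, rfl⟩
  obtain ⟨k, hk, hk'⟩ : ∃ k < 23, g * φ a * g⁻¹ = a ^ k := by
    rw [mem_zpowers_iff_mem_range_orderOf, Finset.mem_image] at hga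
    obtain ⟨k, hk, hk'⟩ := hga
    exact ⟨k, hoa ▸ Finset.mem_range.mp hk, hk'.symm⟩
  have hk0 : (⟨k, hk⟩ : Fin 23) ≠ 0 := by
    intro h0
    have : k = 0 := congrArg Fin.val h0
    rw [this, pow_zero, conj_eq_one_iff, EmbeddingLike.map_eq_one_iff] at hk'
    rw [hk', orderOf_one] at hoa
    omega
  obtain ⟨i, hi⟩ := shift_pow_orbit ⟨k, hk⟩ hk0

  set g1 : H := d ^ (i : ℕ) * g with hg1
  obtain ⟨u, hu, hu2⟩ : ∃ u : H, g1 * φ a * g1⁻¹ = u ∧
      ((u : Perm GolayPt) = shift ∨ (u : Perm GolayPt) = shift ^ 22) := by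
    refine ⟨_, rfl, ?_⟩
    have : ((g1 * φ a * g1⁻¹ : H) : Perm GolayPt) =
        dbl ^ (i : ℕ) * shift ^ k * (dbl ^ (i : ℕ))⁻¹ := by
      have h2 : g1 * φ a * g1⁻¹ = d ^ (i : ℕ) * a ^ k * (d ^ (i : ℕ))⁻¹ := by
        rw [← hk', hg1]; group
      rw [h2]
      simp [ha, hdd]
    rw [this]
    exact hi
  -- the doubling map
  let ψ : H →* H := (MulAut.conj g1).toMonoidHom.comp φ.toMonoidHom
  have hψ : ∀ x, ψ x = g1 * φ x * g1⁻¹ := fun x => rfl
  have hrel : ((ψ d : H) : Perm GolayPt) * shift * ((ψ d : H) : Perm GolayPt)⁻¹ = shift ^ 2 := by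
    have h1 : d * a * d⁻¹ = a ^ 2 := Subtype.ext (by simpa [ha, hdd] using pow22_conj.2.1)
    have h2 := congrArg (fun x : H => (x : Perm GolayPt)) (congrArg ψ h1)
    simp only [map_mul, map_inv, map_pow, hψ a, hu, Subgroup.coe_mul, Subgroup.coe_inv,
      Subgroup.coe_pow] at h2
    rcases hu2 with e1 | e1 <;> rw [e1] at h2
    · exact h2
    · rw [pow22_conj.1] at h2
      have h3 := congrArg (·⁻¹) h2
      simpa [mul_assoc] using h3
  obtain ⟨j, hj⟩ : ∃ j : Fin 23, ((ψ d : H) : Perm GolayPt) = dbl * shift ^ (j : ℕ) := by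
    obtain ⟨j, hj⟩ := eq_pow_shift (σ := dbl⁻¹ * ((ψ d : H) : Perm GolayPt)) (by
      have h1 : shift = dbl⁻¹ * shift ^ 2 * dbl := by
        rw [← pow22_conj.2.1]; group
      show dbl⁻¹ * _ * shift = shift * (dbl⁻¹ * _)
      conv_rhs => rw [h1, ← hrel]
      group)
    exact ⟨j, by rw [← hj]; group⟩
  set g2 : H := a ^ (2 * (j : ℕ)) * g1 with hg2
  have hg2a : ((g2 * φ a * g2⁻¹ : H) : Perm GolayPt) = (u : Perm GolayPt) := by
    rw [show g2 * φ a * g2⁻¹ = a ^ (2 * (j : ℕ)) * u * (a ^ (2 * (j : ℕ)))⁻¹ by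
      rw [← hu, hg2]; group]
    rcases hu2 with e1 | e1 <;> simp only [Subgroup.coe_mul, Subgroup.coe_inv, Subgroup.coe_pow,
      e1, ha] <;> group
  have hg2d : ((g2 * φ d * g2⁻¹ : H) : Perm GolayPt) = dbl := by
    rw [show g2 * φ d * g2⁻¹ = a ^ (2 * (j : ℕ)) * ψ d * (a ^ (2 * (j : ℕ)))⁻¹ by
      rw [hψ, hg2]; group]
    simp only [Subgroup.coe_mul, Subgroup.coe_inv, Subgroup.coe_pow, hj, ha]
    exact dbl_shift_fix j
  let χ : H →* H := (MulAut.conj g2).toMonoidHom.comp φ.toMonoidHom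
  have hχ : ∀ x, χ x = g2 * φ x * g2⁻¹ := fun x => rfl
  have hrel2 : ((χ e : H) : Perm GolayPt) * dbl * ((χ e : H) : Perm GolayPt)⁻¹ = dbl ^ 3 := by
    have h1 : e * d * e⁻¹ = d ^ 3 := Subtype.ext (by simpa [hee, hdd] using pow22_conj.2.2.1)
    have h2 := congrArg (fun x : H => (x : Perm GolayPt)) (congrArg χ h1)
    simp only [map_mul, map_inv, map_pow, Subgroup.coe_mul, Subgroup.coe_inv,
      Subgroup.coe_pow, hχ d, hg2d] at h2
    exact h2
  obtain ⟨l, hl⟩ : ∃ l : Fin 11, ((χ e : H) : Perm GolayPt) = ctw * dbl ^ (l : ℕ) := by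
    obtain ⟨l, hl⟩ := eq_pow_dbl (σ := ctw⁻¹ * ((χ e : H) : Perm GolayPt))
      (mul_mem (inv_mem ctw_mem) (hH (χ e).2)) (by
      have h1 : dbl = ctw⁻¹ * dbl ^ 3 * ctw := by
        rw [← pow22_conj.2.2.1]; group
      show ctw⁻¹ * _ * dbl = dbl * (ctw⁻¹ * _)
      conv_rhs => rw [h1, ← hrel2]
      group)
    exact ⟨l, by rw [← hl]; group⟩
  have hw : ((χ a : H) ^ 5 * (χ e) ^ 2) ^ 4 = 1 := by
    rw [← map_pow, ← map_pow, ← map_mul, ← map_pow]
    have : (a ^ 5 * e ^ 2) ^ 4 = 1 := Subtype.ext (by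
      simpa [ha, hee] using pow22_conj.2.2.2.2.1)
    rw [this, map_one]
  have hw' := congrArg (fun x : H => (x : Perm GolayPt)) hw
  simp only [Subgroup.coe_mul, Subgroup.coe_pow, Subgroup.coe_one, hl, hχ a, hg2a] at hw'
  rcases hu2 with e1 | e1 <;> rw [e1] at hw'
  · have hl0 := (word_kill l).1 hw'
    refine ⟨g2, Subtype.ext (hg2a.trans e1), Subtype.ext hg2d, Subtype.ext ?_⟩
    rw [← hχ, hl, hl0]; simp [hee]
  · exact absurd hw' (word_kill l).2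

/-- A group whose automorphisms are all inner has trivial outer automorphism group. -/
theorem card_out_eq_one {G : Type*} [Group G]
    (h : ∀ φ : MulAut G, φ ∈ Cfsg.Inn G) : Nat.card (Cfsg.Out G) = 1 := by
  have : Subsingleton (Cfsg.Out G) :=
    ⟨fun a b => Quotient.inductionOn₂ a b fun x y => QuotientGroup.eq.mpr (h _)⟩
  exact Nat.card_unique

/-- An automorphism agreeing with an inner one on a generating set is inner. -/
theorem mem_inn_of_closure {G : Type*} [Group G] {S : Set G} (hS : Subgroup.closure S = ⊤)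
    (φ : MulAut G) (g : G) (h : ∀ x ∈ S, g * φ x * g⁻¹ = x) : φ ∈ Cfsg.Inn G := by
  refine ⟨g⁻¹, ?_⟩
  have he : ((MulAut.conj g⁻¹ : MulAut G) : G ≃* G).toMonoidHom = φ.toMonoidHom := by
    refine MonoidHom.eq_of_eqOn_dense hS fun x hx => ?_
    show g⁻¹ * x * g⁻¹⁻¹ = φ x
    conv_lhs => rw [← h x hx]
    group
  exact MulEquiv.ext fun x => DFunLike.congr_fun he x

end Cfsg.Agent.Lib.MathieuOut
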